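import Mathlib

/-!
# Truncated exponentials of a nilpotent additive group of a ring

Let `S` be a set of elements of a ring of odd characteristic `p` all triple products of which vanish.
If `1 + s` lies in a finite monoid of units `H` for `s ∈ S`, and commutators of members of `S` are
members, then `1 + x + x²/2` lies in `H` for all `x` in the span of `S`.
-/

set_option autoImplicit false

namespace CfsgLib.FModule

variable {R : Type*} [Ring R]

theorem mul_zero_of_closure {S : Set R} {c : R} (h : ∀ s ∈ S, c * s = 0) :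
    ∀ x ∈ AddSubgroup.closure S, c * x = 0 := fun x hx => by
  induction hx using AddSubgroup.closure_induction with
  | mem x hx => exact h x hx
  | zero => exact mul_zero c
  | add x y _ _ ihx ihy => rw [mul_add, ihx, ihy, add_zero]
  | neg x _ ihx => rw [mul_neg, ihx, neg_zero]

theorem zero_mul_of_closure {S : Set R} {c : R} (h : ∀ s ∈ S, s * c = 0) :
    ∀ x ∈ AddSubgroup.closure S, x * c = 0 := fun x hx => by
  induction hx using AddSubgroup.closure_induction with
  | mem x hx => exact h x hx
  | zero => exact zero_mul c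
  | add x y _ _ ihx ihy => rw [add_mul, ihx, ihy, add_zero]
  | neg x _ ihx => rw [neg_mul, ihx, neg_zero]

theorem triple_of_closure {S : Set R} (h : ∀ a ∈ S, ∀ b ∈ S, ∀ c ∈ S, a * b * c = 0) :
    ∀ a ∈ AddSubgroup.closure S, ∀ b ∈ AddSubgroup.closure S, ∀ c ∈ AddSubgroup.closure S,
      a * b * c = 0 := by
  intro a ha b hb c hc
  induction ha using AddSubgroup.closure_induction with
  | mem a ha =>
    induction hb using AddSubgroup.closure_induction with
    | mem b hb => exact mul_zero_of_closure (c := a * b) (fun s hs => h a ha b hb s hs) c hc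
    | zero => rw [mul_zero, zero_mul]
    | add x y _ _ ihx ihy => rw [mul_add, add_mul, ihx, ihy, add_zero]
    | neg x _ ihx => rw [mul_neg, neg_mul, ihx, neg_zero]
  | zero => rw [zero_mul, zero_mul]
  | add x y _ _ ihx ihy => rw [add_mul, add_mul, ihx, ihy, add_zero]
  | neg x _ ihx => rw [neg_mul, neg_mul, ihx, neg_zero]

/-- The truncated exponential. -/
def expTwo (h : ℕ) (x : R) : R := 1 + x + h • (x * x)

theorem expTwo_of_sq (h : ℕ) {x : R} (hx : x * x = 0) : expTwo h x = 1 + x := by
  rw [expTwo, hx, smul_zero, add_zero]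

/-- The span is exponentiated into the monoid. -/
theorem expTwo_mem {p h : ℕ} (hp : ∀ x : R, p • x = 0) (hh : 2 * h = p + 1) {H : Set R} (h1 : (1 : R) ∈ H)
    (hH : ∀ a ∈ H, ∀ b ∈ H, a * b ∈ H) {S : Set R} (hsq : ∀ s ∈ S, s * s = 0) (hS : ∀ s ∈ S, 1 + s ∈ H)
    (h3 : ∀ a ∈ AddSubgroup.closure S, ∀ b ∈ AddSubgroup.closure S, ∀ c ∈ AddSubgroup.closure S,
      a * b * c = 0) (hbr : ∀ a ∈ S, ∀ b ∈ S, a * b - b * a ∈ S) :
    ∀ x ∈ AddSubgroup.closure S, expTwo h x ∈ H := by
  classical
  set K := AddSubgroup.closure S with hK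
  have hp1 : 1 ≤ p := by
    by_contra hcon
    omega
  have hneg : ∀ x : R, -x = (p - 1) • x := fun x => by
    rw [neg_eq_iff_add_eq_zero, add_comm, ← succ_nsmul, Nat.sub_add_cancel hp1, hp]
  have hmon : ∀ x ∈ K, x ∈ AddSubmonoid.closure S := fun x hx => by
    induction hx using AddSubgroup.closure_induction with
    | mem x hx => exact AddSubmonoid.subset_closure hx
    | zero => exact zero_mem _
    | add x y _ _ ihx ihy => exact add_mem ihx ihy
    | neg x _ ihx => rw [hneg]; exact nsmul_mem ihx _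
  -- the central part
  let Z : Set R := {z | z ∈ K ∧ (∀ k ∈ K, z * k = 0 ∧ k * z = 0) ∧ 1 + z ∈ H}
  have hZ0 : (0 : R) ∈ Z := ⟨zero_mem K, fun k _ => ⟨zero_mul k, mul_zero k⟩, by rwa [add_zero]⟩
  have hZadd : ∀ a ∈ Z, ∀ b ∈ Z, a + b ∈ Z := fun a ha b hb =>
    ⟨add_mem ha.1 hb.1, fun k hk => ⟨by rw [add_mul, (ha.2.1 k hk).1, (hb.2.1 k hk).1, add_zero],
      by rw [mul_add, (ha.2.1 k hk).2, (hb.2.1 k hk).2, add_zero]⟩, by
      have e : (1 + a) * (1 + b) = 1 + (a + b) := by
        rw [mul_add, mul_one, add_mul, one_mul, (ha.2.1 b hb.1).1, add_zero, add_assoc]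
      rw [← e]
      exact hH _ ha.2.2 _ hb.2.2⟩
  have hZn : ∀ (n : ℕ), ∀ a ∈ Z, n • a ∈ Z := fun n a ha => by
    induction n with
    | zero => rw [zero_smul]; exact hZ0
    | succ n ih => rw [succ_nsmul]; exact hZadd _ ih _ ha
  have hgen : ∀ a ∈ S, ∀ b ∈ S, a * b - b * a ∈ Z := fun a ha b hb => by
    refine ⟨AddSubgroup.subset_closure (hbr a ha b hb), fun k hk => ?_, hS _ (hbr a ha b hb)⟩
    have hA := AddSubgroup.subset_closure (k := S) ha
    have hB := AddSubgroup.subset_closure (k := S) hb
    constructor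
    · rw [sub_mul, h3 a hA b hB k hk, h3 b hB a hA k hk, sub_self]
    · rw [mul_sub, ← mul_assoc, ← mul_assoc, h3 k hk a hA b hB, h3 k hk b hB a hA, sub_self]
  have hbrK : ∀ x ∈ K, ∀ s ∈ S, x * s - s * x ∈ Z := fun x hx s hs => by
    have hx' := hmon x hx
    induction hx' using AddSubmonoid.closure_induction with
    | mem x hx' => exact hgen x hx' s hs
    | zero => rw [zero_mul, mul_zero, sub_self]; exact hZ0
    | add x y hx1 hy1 ihx ihy =>
      have hsub : ∀ z ∈ AddSubmonoid.closure S, z ∈ K := fun z hz =>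
        (AddSubmonoid.closure_le (S := K.toAddSubmonoid)).2 AddSubgroup.subset_closure hz
      rw [add_mul, mul_add, add_sub_add_comm]
      exact hZadd _ (ihx (hsub x hx1)) _ (ihy (hsub y hy1))
  intro x hx
  have hx' := hmon x hx
  clear hx
  suffices hkey : x ∈ K ∧ expTwo h x ∈ H from hkey.2
  induction hx' using AddSubmonoid.closure_induction_left with
  | zero => exact ⟨zero_mem K, by rw [expTwo, mul_zero, smul_zero, add_zero, add_zero]; exact h1⟩
  | add_left s hs y _ ih =>
    obtain ⟨hy, hey⟩ := ih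
    have hsK := AddSubgroup.subset_closure (k := S) hs
    refine ⟨add_mem hsK hy, ?_⟩
    set c := s * y - y * s with hc
    have hcZ : (p - 1) • h • c ∈ Z := hZn _ _ (hZn _ _ (by
      have := hZn (p - 1) _ (hbrK y hy s hs)
      rwa [← hneg, neg_sub] at this))
    rw [← hneg] at hcZ
    have e : expTwo h (s + y) = (1 + s) * expTwo h y * (1 + -(h • c)) := by
      have hs2 := hsq s hs
      have h2 : h • (s * y) + h • (s * y) = s * y := by
        rw [← two_nsmul, ← mul_nsmul', hh, succ_nsmul, hp, zero_add]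
      have hz := fun k hk => (hcZ.2.1 k hk).2
      have hzs : s * (h • c) = 0 := by have := hz s hsK; rwa [mul_neg, neg_eq_zero] at this
      have hzy : y * (h • c) = 0 := by have := hz y hy; rwa [mul_neg, neg_eq_zero] at this
      have hsyy : s * (y * y) = 0 := by rw [← mul_assoc]; exact h3 s hsK y hy y hy
      have hAz : s * y * (h • c) = 0 := by rw [mul_assoc, hzy, mul_zero]
      have hPz : y * y * (h • c) = 0 := by rw [mul_assoc, hzy, mul_zero]
      have e1 : (1 + s) * expTwo h y = 1 + s + y + s * y + h • (y * y) := by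
        rw [expTwo, add_mul, one_mul, mul_add s, mul_add s, mul_one, mul_smul_comm, hsyy, smul_zero, add_zero]
        abel
      rw [e1, mul_add, mul_one, mul_neg]
      simp only [add_mul, one_mul, smul_mul_assoc, hzs, hzy, hAz, hPz, smul_zero, add_zero]
      rw [expTwo, add_mul, mul_add, mul_add, hs2, zero_add, smul_add, smul_add, hc, smul_sub]
      nth_rewrite 2 [← h2]
      abel
    rw [e]
    exact hH _ (hH _ (hS s hs) _ hey) _ hcZ.2.2

end CfsgLib.FModule
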