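import Mathlib

/-!
# Leading coefficients of a subgroup moved by a one-parameter unipotent group

For additive maps `D, T` of a finite abelian group the sequences `n ↦ u n + D (u (n-1)) + T (u (n-2))`
with values `u n` in a subgroup `U` are the coefficients of `∑ Xⁿ (1 + X D + X² T) (u n)`.  The last
non-vanishing coefficients form a subgroup at least as large as `U`.
-/

set_option autoImplicit false

namespace CfsgLib.FModule

variable {W : Type*} [AddCommGroup W]

/-- Multiplication by the variable. -/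
def shift (f : ℕ → W) : ℕ → W
  | 0 => 0
  | n + 1 => f n

@[simp] theorem shift_zero (f : ℕ → W) : shift f 0 = 0 := rfl

@[simp] theorem shift_succ (f : ℕ → W) (n : ℕ) : shift f (n + 1) = f n := rfl

theorem shift_add (f g : ℕ → W) : shift (f + g) = shift f + shift g := by
  funext n; cases n <;> simp

theorem shift_zero_fun : shift (0 : ℕ → W) = 0 := by
  funext n; cases n <;> simp

/-- The coefficients. -/
def coeffs (D T : W →+ W) (u : ℕ → W) : ℕ → W :=
  fun n => u n + shift (fun m => D (u m)) n + shift (shift fun m => T (u m)) n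

variable (D T : W →+ W)

theorem coeffs_add (u v : ℕ → W) : coeffs D T (u + v) = coeffs D T u + coeffs D T v := by
  funext n
  rcases n with _ | _ | n <;> simp [coeffs, map_add] <;> abel

theorem coeffs_shift (u : ℕ → W) : coeffs D T (shift u) = shift (coeffs D T u) := by
  funext n
  rcases n with _ | _ | _ | n <;> simp [coeffs]

theorem coeffs_iterate (u : ℕ → W) (k : ℕ) : coeffs D T (shift^[k] u) = shift^[k] (coeffs D T u) := by
  induction k with
  | zero => rfl
  | succ k ih => rw [Function.iterate_succ_apply', Function.iterate_succ_apply', coeffs_shift, ih]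

theorem shift_iterate_add (f : ℕ → W) (k n : ℕ) : shift^[k] f (n + k) = f n := by
  induction k with
  | zero => rfl
  | succ k ih => rw [Function.iterate_succ_apply', ← add_assoc, shift_succ, ih]

theorem shift_iterate_mem {U : AddSubgroup W} {f : ℕ → W} (hf : ∀ n, f n ∈ U) (k n : ℕ) :
    shift^[k] f n ∈ U := by
  induction k generalizing n with
  | zero => exact hf n
  | succ k ih =>
    rw [Function.iterate_succ_apply']
    cases n with
    | zero => exact zero_mem U
    | succ n => exact ih n

theorem shift_iterate_eq_zero {f : ℕ → W} {d : ℕ} (hf : ∀ e, d < e → f e = 0) (k : ℕ) :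
    ∀ e, d + k < e → shift^[k] f e = 0 := by
  intro e he
  obtain ⟨n, rfl⟩ : ∃ n, e = n + k := ⟨e - k, by omega⟩
  rw [shift_iterate_add]
  exact hf n (by omega)

/-- The last coefficients. -/
def lead (U : AddSubgroup W) : AddSubgroup W where
  carrier := {w | ∃ (d : ℕ) (u : ℕ → W), (∀ n, u n ∈ U) ∧ (∀ e, d < e → coeffs D T u e = 0) ∧ coeffs D T u d = w}
  zero_mem' := ⟨0, 0, fun _ => zero_mem U, fun e _ => by rcases e with _ | _ | e <;> simp [coeffs], by simp [coeffs]⟩
  add_mem' := by
    rintro a b ⟨d, u, hu, hu0, rfl⟩ ⟨d', v, hv, hv0, rfl⟩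
    refine ⟨d + d', shift^[d'] u + shift^[d] v, fun n => add_mem (shift_iterate_mem hu d' n) (shift_iterate_mem hv d n),
      fun e he => ?_, ?_⟩
    · rw [coeffs_add, Pi.add_apply, coeffs_iterate, coeffs_iterate, shift_iterate_eq_zero hu0 _ _ he,
        shift_iterate_eq_zero hv0 _ _ (by omega), add_zero]
    · rw [coeffs_add, Pi.add_apply, coeffs_iterate, coeffs_iterate, shift_iterate_add]
      conv_lhs => rw [show d + d' = d' + d by omega, shift_iterate_add]
  neg_mem' := by
    rintro a ⟨d, u, hu, hu0, rfl⟩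
    have hneg : coeffs D T (-u) = -coeffs D T u := by
      funext n; rcases n with _ | _ | n <;> simp [coeffs] <;> abel
    exact ⟨d, -u, fun n => neg_mem (hu n), fun e he => by rw [hneg, Pi.neg_apply, hu0 e he, neg_zero],
      by rw [hneg, Pi.neg_apply]⟩

variable {D T}

theorem coeffs_mem {U : AddSubgroup W} (Z : AddSubgroup W) (hU : U ≤ Z) (hD : ∀ u ∈ U, D u ∈ Z)
    (hT : ∀ u ∈ U, T u ∈ Z) {u : ℕ → W} (hu : ∀ n, u n ∈ U) (n : ℕ) : coeffs D T u n ∈ Z := by
  rcases n with _ | _ | n
  · simpa [coeffs] using hU (hu 0)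
  · simpa [coeffs] using add_mem (hU (hu 1)) (hD _ (hu 0))
  · simpa [coeffs] using add_mem (add_mem (hU (hu _)) (hD _ (hu _))) (hT _ (hu _))

theorem lead_le {U : AddSubgroup W} (Z : AddSubgroup W) (hU : U ≤ Z) (hD : ∀ u ∈ U, D u ∈ Z)
    (hT : ∀ u ∈ U, T u ∈ Z) : lead D T U ≤ Z := by
  rintro w ⟨d, u, hu, -, rfl⟩
  exact coeffs_mem Z hU hD hT hu d

theorem lead_mono {U U' : AddSubgroup W} (h : U ≤ U') : lead D T U ≤ lead D T U' := by
  rintro w ⟨d, u, hu, hu0, rfl⟩
  exact ⟨d, u, fun n => h (hu n), hu0, rfl⟩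

/-- There are at least as many last coefficients as elements. -/
theorem card_le_card_lead [Finite W] (U : AddSubgroup W) : Nat.card ↥U ≤ Nat.card ↥(lead D T U) := by
  classical
  set L := lead D T U
  by_contra hlt
  push Not at hlt
  set N := Nat.card ↥L ^ 3
  let ext : (Fin N → ↥U) →+ (ℕ → W) :=
    { toFun := fun v n => if h : n < N then (v ⟨n, h⟩ : W) else 0
      map_zero' := by funext n; simp
      map_add' := fun v w => by funext n; simp only [Pi.add_apply]; split <;> simp }
  have hext : ∀ v n, ext v n ∈ U := fun v n => by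
    show (if h : n < N then (v ⟨n, h⟩ : W) else 0) ∈ U
    split
    · exact (v _).2
    · exact zero_mem U
  let S : ℕ → AddSubgroup (Fin N → ↥U) := fun d =>
    { carrier := {v | ∀ e, d ≤ e → coeffs D T (ext v) e = 0}
      zero_mem' := fun e _ => by rw [map_zero]; rcases e with _ | _ | e <;> simp [coeffs]
      add_mem' := fun {a b} ha hb e he => by
        rw [map_add, coeffs_add, Pi.add_apply, ha e he, hb e he, add_zero]
      neg_mem' := fun {a} ha e he => by
        have h1 : coeffs D T (ext (-a) + ext a) e = 0 := by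
          rw [← map_add, neg_add_cancel, map_zero]; rcases e with _ | _ | e <;> simp [coeffs]
        rw [coeffs_add, Pi.add_apply, ha e he, add_zero] at h1
        exact h1 }
  have h0 : S 0 = ⊥ := by
    rw [eq_bot_iff]
    intro v hv
    have key : ∀ n, ext v n = 0 := by
      intro n
      induction n using Nat.strong_induction_on with
      | _ n ih =>
        have := hv n (Nat.zero_le n)
        rcases n with _ | _ | n
        · simpa [coeffs] using this
        · simpa [coeffs, ih 0 (by omega)] using this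
        · simpa [coeffs, ih n (by omega), ih (n + 1) (by omega)] using this
    rw [AddSubgroup.mem_bot]
    funext i
    exact Subtype.ext (by simpa [ext] using key i)
  have htop : S (N + 2) = ⊤ := by
    rw [eq_top_iff]
    intro v _ e he
    obtain ⟨n, rfl⟩ : ∃ n, e = n + 2 := ⟨e - 2, by omega⟩
    have hz : ∀ m, N ≤ m → ext v m = 0 := fun m hm => dif_neg (by omega)
    simp [coeffs, hz n (by omega), hz (n + 1) (by omega), hz (n + 2) (by omega)]
  have hstep : ∀ d, Nat.card ↥(S (d + 1)) ≤ Nat.card ↥(S d) * Nat.card ↥L := by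
    intro d
    let f : ↥(S (d + 1)) →+ W :=
      { toFun := fun v => coeffs D T (ext v) d
        map_zero' := by
          rw [AddSubgroup.coe_zero, map_zero]; rcases d with _ | _ | d <;> simp [coeffs]
        map_add' := fun a b => by rw [AddSubgroup.coe_add, map_add, coeffs_add, Pi.add_apply] }
    have hr : f.range ≤ L := by
      rintro _ ⟨v, rfl⟩
      exact ⟨d, ext (v : Fin N → ↥U), hext _, fun e he => v.2 e he, rfl⟩
    have hk : Nat.card ↥f.ker ≤ Nat.card ↥(S d) := by
      refine Nat.card_le_card_of_injective (fun v => (⟨(v : ↥(S (d + 1))), fun e he => ?_⟩ : ↥(S d))) ?_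
      · rcases eq_or_lt_of_le he with rfl | he'
        · exact v.2
        · exact v.1.2 e he'
      · intro a b hab
        exact Subtype.ext (Subtype.ext (congrArg (fun z : ↥(S d) => (z : Fin N → ↥U)) hab))
    rw [AddSubgroup.card_eq_card_quotient_mul_card_addSubgroup f.ker,
      Nat.card_congr (QuotientAddGroup.quotientKerEquivRange f).toEquiv, mul_comm]
    exact Nat.mul_le_mul hk (AddSubgroup.card_le_of_le hr)
  have hall : ∀ d, Nat.card ↥(S d) ≤ Nat.card ↥L ^ d := by
    intro d
    induction d with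
    | zero => simp [h0]
    | succ d ih => rw [pow_succ]; exact (hstep d).trans (Nat.mul_le_mul_right _ ih)
  have h1 := hall (N + 2)
  rw [htop, AddSubgroup.card_top, Nat.card_fun, Nat.card_fin] at h1
  set l := Nat.card ↥L
  have hl : 0 < l := Nat.card_pos
  have h2 : (l + 1) ^ N ≤ l ^ (N + 2) := le_trans (Nat.pow_le_pow_left hlt N) h1
  have h3 : l ^ N + N * l ^ (N - 1) ≤ (l + 1) ^ N := by
    have key : ∀ n, l ^ (n + 1) + (n + 1) * l ^ n ≤ (l + 1) ^ (n + 1) := by
      intro n
      induction n with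
      | zero => simp
      | succ n ihn =>
        rw [pow_succ (l + 1) (n + 1)]
        refine le_trans ?_ (Nat.mul_le_mul_right _ ihn)
        ring_nf
        omega
    obtain ⟨n, hn⟩ : ∃ n, N = n + 1 := ⟨N - 1, (Nat.sub_add_cancel (Nat.one_le_pow _ _ hl)).symm⟩
    rw [hn, Nat.add_sub_cancel]
    exact key n
  have h4 : N * l ^ (N - 1) = l ^ (N + 2) := by
    have hN1 : 1 ≤ N := Nat.one_le_pow _ _ hl
    show l ^ 3 * l ^ (N - 1) = l ^ (N + 2)
    rw [← pow_add]
    congr 1
    omega
  have h5 : 0 < l ^ N := pow_pos hl N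
  omega

/-- Transformed annihilating pairs annihilate. -/
theorem lead_mul {W₁ W₂ W₃ : Type*} [AddCommGroup W₁] [AddCommGroup W₂] [AddCommGroup W₃]
    (B : W₁ →+ W₂ →+ W₃) {D₁ T₁ : W₁ →+ W₁} {D₂ T₂ : W₂ →+ W₂} {U₁ : AddSubgroup W₁} {U₂ : AddSubgroup W₂}
    (h0 : ∀ u ∈ U₁, ∀ v ∈ U₂, B u v = 0)
    (h1 : ∀ u ∈ U₁, ∀ v ∈ U₂, B (D₁ u) v + B u (D₂ v) = 0)
    (h2 : ∀ u ∈ U₁, ∀ v ∈ U₂, B (T₁ u) v + B (D₁ u) (D₂ v) + B u (T₂ v) = 0)
    (h3 : ∀ u ∈ U₁, ∀ v ∈ U₂, B (T₁ u) (D₂ v) + B (D₁ u) (T₂ v) = 0)
    (h4 : ∀ u ∈ U₁, ∀ v ∈ U₂, B (T₁ u) (T₂ v) = 0)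
    {x : W₁} (hx : x ∈ lead D₁ T₁ U₁) {y : W₂} (hy : y ∈ lead D₂ T₂ U₂) : B x y = 0 := by
  classical
  obtain ⟨d, u, hu, hu0, rfl⟩ := hx
  obtain ⟨e, v, hv, hv0, rfl⟩ := hy
  let conv : (ℕ → W₁) → (ℕ → W₂) → ℕ → W₃ := fun f g n => ∑ i ∈ Finset.range (n + 1), B (f i) (g (n - i))
  have hl : ∀ f g, conv (shift f) g = shift (conv f g) := by
    intro f g
    funext n
    cases n with
    | zero => simp [conv]
    | succ n =>
      show ∑ i ∈ Finset.range (n + 2), B (shift f i) (g (n + 1 - i)) = _
      rw [Finset.sum_range_succ']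
      simp [conv]
  have hr : ∀ f g, conv f (shift g) = shift (conv f g) := by
    intro f g
    funext n
    cases n with
    | zero => simp [conv]
    | succ n =>
      show ∑ i ∈ Finset.range (n + 2), B (f i) (shift g (n + 1 - i)) = _
      rw [Finset.sum_range_succ]
      simp only [Nat.sub_self, shift_zero, map_zero, add_zero]
      refine Finset.sum_congr rfl fun i hi => ?_
      rw [Finset.mem_range] at hi
      rw [show n + 1 - i = n - i + 1 by omega, shift_succ]
  have hal : ∀ f f' g, conv (f + f') g = conv f g + conv f' g := fun f f' g => by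
    funext n; simp [conv, Finset.sum_add_distrib]
  have har : ∀ f g g', conv f (g + g') = conv f g + conv f g' := fun f g g' => by
    funext n; simp [conv, Finset.sum_add_distrib]
  set u1 : ℕ → W₁ := fun m => D₁ (u m)
  set u2 : ℕ → W₁ := fun m => T₁ (u m)
  set v1 : ℕ → W₂ := fun m => D₂ (v m)
  set v2 : ℕ → W₂ := fun m => T₂ (v m)
  have hC : conv (coeffs D₁ T₁ u) (coeffs D₂ T₂ v) = 0 := by
    rw [show coeffs D₁ T₁ u = u + shift u1 + shift (shift u2) from rfl,
      show coeffs D₂ T₂ v = v + shift v1 + shift (shift v2) from rfl]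
    simp only [hal, har, hl, hr]
    have e0 : conv u v = 0 := by
      funext n; exact Finset.sum_eq_zero fun i _ => h0 _ (hu i) _ (hv _)
    have e1 : conv u v1 + conv u1 v = 0 := by
      funext n
      simp only [conv, Pi.add_apply, Pi.zero_apply, ← Finset.sum_add_distrib]
      exact Finset.sum_eq_zero fun i _ => by rw [add_comm]; exact h1 _ (hu i) _ (hv _)
    have e2 : conv u v2 + conv u1 v1 + conv u2 v = 0 := by
      funext n
      simp only [conv, Pi.add_apply, Pi.zero_apply, ← Finset.sum_add_distrib]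
      refine Finset.sum_eq_zero fun i _ => ?_
      have := h2 _ (hu i) _ (hv (n - i))
      rw [← this]; simp only [u1, u2, v1, v2]; abel
    have e3 : conv u1 v2 + conv u2 v1 = 0 := by
      funext n
      simp only [conv, Pi.add_apply, Pi.zero_apply, ← Finset.sum_add_distrib]
      exact Finset.sum_eq_zero fun i _ => by rw [add_comm]; exact h3 _ (hu i) _ (hv _)
    have e4 : conv u2 v2 = 0 := by
      funext n; exact Finset.sum_eq_zero fun i _ => h4 _ (hu i) _ (hv _)
    calc _ = conv u v + shift (conv u v1 + conv u1 v) + shift (shift (conv u v2 + conv u1 v1 + conv u2 v))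
          + shift (shift (shift (conv u1 v2 + conv u2 v1))) + shift (shift (shift (shift (conv u2 v2)))) := by
            simp only [shift_add]; abel
      _ = 0 := by simp only [e0, e1, e2, e3, e4, shift_zero_fun, add_zero]
  have h5 := congrFun hC (d + e)
  simp only [conv, Pi.zero_apply] at h5
  rw [Finset.sum_eq_single d] at h5
  · rwa [Nat.add_sub_cancel_left] at h5
  · intro i hi hid
    rw [Finset.mem_range] at hi
    rcases lt_or_gt_of_ne hid with h | h
    · rw [hv0 _ (by omega), map_zero]
    · rw [hu0 _ h, map_zero, AddMonoidHom.zero_apply]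
  · intro h; simp at h

/-- A subgroup whose traces on a filtration do not grow is invariant. -/
theorem invariant_of_card_eq [Finite W] (F : ℕ → AddSubgroup W) (hanti : ∀ k, F (k + 1) ≤ F k)
    {N : ℕ} (hN : F N = ⊥) (hD : ∀ k, ∀ x ∈ F k, D x ∈ F (k + 1)) (hT : ∀ k, ∀ x ∈ F k, T x ∈ F (k + 1))
    {U : AddSubgroup W} (hU : U ≤ F 0)
    (heq : ∀ k, Nat.card ↥(lead D T U ⊓ F k) = Nat.card ↥(U ⊓ F k)) :
    ∀ u ∈ U, D u ∈ U ∧ T u ∈ U := by
  have hFanti : ∀ j k, j ≤ k → F k ≤ F j := fun j k hjk =>
    antitone_nat_of_succ_le hanti hjk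
  suffices h : ∀ i k, k + i = N → ∀ u ∈ U ⊓ F k, D u ∈ U ⊓ F (k + 1) ∧ T u ∈ U ⊓ F (k + 1) from
    fun u hu => ⟨(h N 0 (zero_add N) u ⟨hu, hU hu⟩).1.1, (h N 0 (zero_add N) u ⟨hu, hU hu⟩).2.1⟩
  intro i
  induction i with
  | zero =>
    intro k hk u hu
    obtain rfl : k = N := by omega
    have hu2 : u ∈ F k := hu.2
    rw [hN, AddSubgroup.mem_bot] at hu2
    subst hu2
    rw [map_zero, map_zero]
    exact ⟨zero_mem _, zero_mem _⟩
  | succ i ih =>
    intro k hk u hu
    set R := U ⊓ F (k + 1)
    have hinv : ∀ r ∈ R, D r ∈ R ∧ T r ∈ R := fun r hr => by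
      have := ih (k + 1) (by omega) r hr
      exact ⟨⟨this.1.1, hanti _ this.1.2⟩, ⟨this.2.1, hanti _ this.2.2⟩⟩
    have hR : lead D T U ⊓ F (k + 1) = R := by
      have h1 : lead D T R = R := AddSubgroup.eq_of_le_of_card_ge
        (lead_le R le_rfl (fun r hr => (hinv r hr).1) fun r hr => (hinv r hr).2) (card_le_card_lead R)
      refine (AddSubgroup.eq_of_le_of_card_ge ?_ (heq (k + 1)).le).symm
      exact le_inf (h1.ge.trans (lead_mono inf_le_left)) inf_le_right
    have hTu : T u ∈ R := by
      rw [← hR]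
      refine ⟨⟨2, fun n => if n = 0 then u else 0, fun n => ?_, fun e he => ?_, ?_⟩, hT k u hu.2⟩
      · dsimp only
        split
        · exact hu.1
        · exact zero_mem U
      · rcases e with _ | _ | _ | e <;> simp_all [coeffs]
      · simp [coeffs]
    refine ⟨?_, hTu⟩
    rw [← hR]
    refine ⟨?_, hD k u hu.2⟩
    -- elements of the invariant part realize every two-term sequence
    have hreal : ∀ i' j, j + i' = N → k + 1 ≤ j → ∀ r₁ ∈ U ⊓ F j, ∀ r₂ ∈ U ⊓ F j, ∃ w : ℕ → W,
        (∀ n, w n ∈ U) ∧ ∀ n, coeffs D T w n = (if n = 0 then r₁ else 0) + if n = 1 then r₂ else 0 := by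
      intro i'
      induction i' with
      | zero =>
        intro j hj _ r₁ h₁ r₂ h₂
        obtain rfl : j = N := by omega
        have e₁ : r₁ ∈ F j := h₁.2
        have e₂ : r₂ ∈ F j := h₂.2
        rw [hN, AddSubgroup.mem_bot] at e₁ e₂
        refine ⟨0, fun _ => zero_mem U, fun n => ?_⟩
        rw [e₁, e₂]
        rcases n with _ | _ | n <;> simp [coeffs]
      | succ i' ih' =>
        intro j hj hjk r₁ h₁ r₂ h₂
        have hi : ∀ r ∈ U ⊓ F j, (D r ∈ U ⊓ F (j + 1)) ∧ T r ∈ U ⊓ F (j + 1) := fun r hr => by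
          have := hinv r ⟨hr.1, hFanti _ _ hjk hr.2⟩
          exact ⟨⟨this.1.1, hD j r hr.2⟩, ⟨this.2.1, hT j r hr.2⟩⟩
        have hr₂ : r₂ - D r₁ ∈ U ⊓ F j := sub_mem h₂ ⟨(hi r₁ h₁).1.1, hanti _ (hi r₁ h₁).1.2⟩
        obtain ⟨w, hw, hw'⟩ := ih' (j + 1) (by omega) (by omega) (T r₁ + D (r₂ - D r₁))
          (add_mem (hi r₁ h₁).2 (hi _ hr₂).1) (T (r₂ - D r₁)) (hi _ hr₂).2
        refine ⟨(fun n => if n = 0 then r₁ else if n = 1 then r₂ - D r₁ else 0) + shift^[2] (-w), fun n => ?_,
          fun n => ?_⟩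
        · refine add_mem ?_ (shift_iterate_mem (fun n => neg_mem (hw n)) 2 n)
          dsimp only
          split
          · exact h₁.1
          · split
            · exact hr₂.1
            · exact zero_mem U
        · have hneg : coeffs D T (-w) = -coeffs D T w := by
            funext n; rcases n with _ | _ | n <;> simp [coeffs] <;> abel
          rw [coeffs_add, Pi.add_apply, coeffs_iterate, hneg]
          rcases n with _ | _ | _ | _ | n <;>
            simp only [Function.iterate_succ_apply', Function.iterate_zero_apply, shift_succ, shift_zero,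
              Pi.neg_apply, hw'] <;> simp [coeffs] <;> abel
    obtain ⟨w, hw, hw'⟩ := hreal i (k + 1) (by omega) le_rfl (T u) hTu 0 (zero_mem _)
    have hneg : coeffs D T (-w) = -coeffs D T w := by
      funext n; rcases n with _ | _ | n <;> simp [coeffs] <;> abel
    refine ⟨1, (fun n => if n = 0 then u else 0) + shift^[2] (-w), fun n => ?_, fun e he => ?_, ?_⟩
    · refine add_mem ?_ (shift_iterate_mem (fun n => neg_mem (hw n)) 2 n)
      dsimp only
      split
      · exact hu.1
      · exact zero_mem U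
    · rw [coeffs_add, Pi.add_apply, coeffs_iterate, hneg]
      rcases e with _ | _ | _ | _ | e
      · omega
      · omega
      all_goals
        simp only [Function.iterate_succ_apply', Function.iterate_zero_apply, shift_succ, shift_zero,
          Pi.neg_apply, hw']
        simp [coeffs]
    · rw [coeffs_add, Pi.add_apply, coeffs_iterate, hneg]
      simp [coeffs, Function.iterate_succ_apply']

end CfsgLib.FModule
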