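import Cfsg.Agent.Lib.FModule.Leading
import Cfsg.Agent.Lib.FModule.Exp
import Cfsg.Agent.Lib.LocalEven.MinOffender.Basic

/-!
# A quadratic offender normal in its normal closure

For an odd prime `p` a `p`-group with an offender on a faithful module of exponent `p` has a quadratic
offender normalized by all its conjugates.  Replacing a quadratic offender `A` by the last coefficients of
its conjugates under the one-parameter group of a quadratic element moves it down a central series.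
-/

set_option autoImplicit false
set_option linter.unusedSectionVars false

namespace CfsgLib.FModule

open CfsgLib.LocalEven.MinOffender (fx)
open CfsgLib.Fusion (conjSub mem_conjSub conj_mem_conjSub)

variable {Γ M : Type*} [Group Γ] [Finite Γ] [AddCommGroup M] [Finite M] [DistribMulAction Γ M]
variable {p : ℕ} [Fact p.Prime]

variable (M) in
/-- The endomorphism of a group element. -/
def endo : Γ →* AddMonoid.End M := DistribMulAction.toAddMonoidEnd Γ M

theorem endo_apply (g : Γ) (m : M) : endo M g m = g • m := rfl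

variable (M) in
/-- The nilpotent part of a group element. -/
def nilp (g : Γ) : AddMonoid.End M := endo M g - 1

theorem endo_eq (g : Γ) : endo M g = 1 + nilp M g := (add_sub_cancel 1 _).symm

theorem nilp_apply (g : Γ) (m : M) : nilp M g m = g • m - m := rfl

variable (M) in
/-- Quadratic action. -/
def Quad (A : Subgroup Γ) : Prop := ∀ a ∈ A, ∀ b ∈ A, nilp M a * nilp M b = 0

theorem Quad.nilp_mul {A : Subgroup Γ} (hA : Quad M A) {a b : Γ} (ha : a ∈ A) (hb : b ∈ A) :
    nilp M (a * b) = nilp M a + nilp M b := by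
  unfold nilp
  rw [map_mul, endo_eq a, endo_eq b, add_mul, one_mul, mul_add, mul_one, hA a ha b hb]
  abel

theorem Quad.nilp_inv {A : Subgroup Γ} (hA : Quad M A) {a : Γ} (ha : a ∈ A) :
    nilp M a⁻¹ = -nilp M a := by
  rw [eq_neg_iff_add_eq_zero, ← hA.nilp_mul (inv_mem ha) ha, inv_mul_cancel, nilp, map_one, sub_self]

variable (M) in
/-- The additive subgroup of a quadratic subgroup. -/
def linSub (A : Subgroup Γ) (hA : Quad M A) : AddSubgroup (AddMonoid.End M) where
  carrier := {x | ∃ a ∈ A, nilp M a = x}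
  zero_mem' := ⟨1, one_mem A, by rw [nilp, map_one, sub_self]⟩
  add_mem' := by
    rintro _ _ ⟨a, ha, rfl⟩ ⟨b, hb, rfl⟩
    exact ⟨a * b, mul_mem ha hb, hA.nilp_mul ha hb⟩
  neg_mem' := by
    rintro _ ⟨a, ha, rfl⟩
    exact ⟨a⁻¹, inv_mem ha, hA.nilp_inv ha⟩

theorem nilp_injective (hf : ∀ g : Γ, (∀ m : M, g • m = m) → g = 1) : Function.Injective (nilp (Γ := Γ) M) := by
  intro a b h
  have h1 : endo M a = endo M b := by rw [endo_eq, endo_eq, h]
  refine inv_mul_eq_one.mp (hf _ fun m => ?_)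
  rw [mul_smul, ← endo_apply b m, ← h1, endo_apply, inv_smul_smul]

theorem card_linSub (hf : ∀ g : Γ, (∀ m : M, g • m = m) → g = 1) {A : Subgroup Γ} (hA : Quad M A) :
    Nat.card ↥(linSub M A hA) = Nat.card ↥A := by
  symm
  refine Nat.card_congr (Equiv.ofBijective (fun a => ⟨nilp M (a : Γ), a, a.2, rfl⟩) ⟨fun a b h => ?_, ?_⟩)
  · exact Subtype.ext (nilp_injective hf (congrArg Subtype.val h))
  · rintro ⟨x, a, ha, rfl⟩
    exact ⟨⟨a, ha⟩, rfl⟩

/-- Conjugation on nilpotent parts. -/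
theorem nilp_conj (b a : Γ) : nilp M (b * a * b⁻¹) = endo M b * nilp M a * endo M b⁻¹ := by
  unfold nilp
  rw [map_mul, map_mul, mul_sub, mul_one, sub_mul, ← map_mul (endo M) b b⁻¹, mul_inv_cancel, map_one]

theorem Quad.conj {A : Subgroup Γ} (hA : Quad M A) (g : Γ) : Quad M (conjSub g A) := by
  intro x hx y hy
  have ha := hA _ (mem_conjSub.1 hx) _ (mem_conjSub.1 hy)
  rw [show x = g * (g⁻¹ * x * g) * g⁻¹ by group, show y = g * (g⁻¹ * y * g) * g⁻¹ by group, nilp_conj, nilp_conj,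
    mul_assoc, mul_assoc (endo M g), ← mul_assoc (endo M g⁻¹), ← mul_assoc (endo M g⁻¹), ← map_mul,
    inv_mul_cancel, map_one, one_mul, ← mul_assoc, ← mul_assoc, mul_assoc _ (nilp M _) (nilp M _), ha, mul_zero,
    zero_mul]

/-- If `c` normalizes a quadratic subgroup, products through it vanish. -/
theorem Quad.sandwich {A : Subgroup Γ} (hA : Quad M A) {a a' c : Γ} (ha : a ∈ A) (ha' : a' ∈ A)
    (hc : c * a' * c⁻¹ ∈ A) (hc2 : nilp M c * nilp M c = 0) : nilp M a * nilp M c * nilp M a' = 0 := by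
  have hcinv : endo M c⁻¹ = 1 - nilp M c := by
    have h1 : endo M c⁻¹ * endo M c = 1 := by rw [← map_mul, inv_mul_cancel, map_one]
    have h2 : endo M c * (1 - nilp M c) = 1 := by
      rw [endo_eq, add_mul, one_mul, mul_sub, mul_one, hc2, sub_zero, sub_add_cancel]
    calc endo M c⁻¹ = endo M c⁻¹ * (endo M c * (1 - nilp M c)) := by rw [h2, mul_one]
      _ = 1 - nilp M c := by rw [← mul_assoc, h1, one_mul]
  have h3 := hA a ha _ hc
  rw [nilp_conj, hcinv, endo_eq] at h3
  -- `a (1 + c) a' (1 - c) = 0`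
  have h4 : nilp M a * nilp M c * nilp M a' * (1 - nilp M c) = 0 := by
    rw [← h3, add_mul, one_mul, add_mul, mul_add, ← mul_assoc (nilp M a), hA a ha a' ha', zero_mul, zero_add,
      ← mul_assoc, ← mul_assoc]
  have h5 := congrArg (· * (1 + nilp M c)) h4
  simp only [zero_mul] at h5
  rwa [mul_assoc, sub_mul, one_mul, mul_add, mul_one, hc2, add_zero, add_sub_cancel_right, mul_one] at h5

theorem nsmul_end (hexp : ∀ m : M, p • m = 0) (x : AddMonoid.End M) : p • x = 0 :=
  AddMonoidHom.ext fun m => hexp (x m)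

theorem eq_zero_of_add_self (hexp : ∀ m : M, p • m = 0) (hp : p ≠ 2) {x : AddMonoid.End M} (h : x + x = 0) :
    x = 0 := by
  obtain ⟨k, hk⟩ := (Fact.out : p.Prime).odd_of_ne_two hp
  have h1 := nsmul_end hexp x
  rwa [hk, add_nsmul, mul_nsmul, two_nsmul, h, nsmul_zero, zero_add, one_nsmul] at h1

variable (Γ M) in
/-- The upper central series of the module. -/
def zc : ℕ → AddSubgroup M
  | 0 => ⊥
  | k + 1 =>
    { carrier := {m | ∀ g : Γ, g • m - m ∈ zc k}
      zero_mem' := fun g => by rw [smul_zero, sub_self]; exact zero_mem _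
      add_mem' := fun {a b} ha hb g => by
        rw [smul_add, add_sub_add_comm]
        exact add_mem (ha g) (hb g)
      neg_mem' := fun {a} ha g => by
        rw [smul_neg, show -(g • a) - -a = -(g • a - a) by abel]
        exact neg_mem (ha g) }

theorem mem_zc_succ {k : ℕ} {m : M} : m ∈ zc Γ M (k + 1) ↔ ∀ g : Γ, g • m - m ∈ zc Γ M k := Iff.rfl

theorem zc_mono (k : ℕ) : zc Γ M k ≤ zc Γ M (k + 1) := by
  induction k with
  | zero => exact bot_le
  | succ k ih => exact fun m hm g => ih (hm g)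

theorem smul_mem_zc {k : ℕ} {m : M} (hm : m ∈ zc Γ M k) (g : Γ) : g • m ∈ zc Γ M k := by
  cases k with
  | zero =>
    have h1 : m = 0 := hm
    rw [h1, smul_zero]
    exact zero_mem _
  | succ k =>
    rw [show g • m = (g • m - m) + m by abel]
    exact add_mem (zc_mono k (hm g)) hm

theorem exists_zc_eq_top (hΓ : IsPGroup p Γ) (hexp : ∀ m : M, p • m = 0) : ∃ N, zc Γ M N = ⊤ := by
  classical
  suffices h : ∀ k, zc Γ M k ≠ ⊤ → Nat.card ↥(zc Γ M k) < Nat.card ↥(zc Γ M (k + 1)) by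
    by_contra hcon
    push Not at hcon
    have hgrow : ∀ k, k < Nat.card ↥(zc Γ M k) := by
      intro k
      induction k with
      | zero => exact Nat.card_pos
      | succ k ih => exact lt_of_le_of_lt ih (h k (hcon k))
    exact absurd (hgrow (Nat.card M)) (not_lt.2 (Nat.card_le_card_of_injective _ Subtype.val_injective))
  intro k hk
  set U := zc Γ M k
  letI : MulAction Γ (M ⧸ U) :=
    { smul := fun g => Quotient.map' (g • ·) fun a b hab => by
        rw [QuotientAddGroup.leftRel_apply] at hab ⊢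
        rw [← smul_neg, ← smul_add]
        exact smul_mem_zc hab g
      one_smul := fun q => Quotient.inductionOn' q fun a => congrArg Quotient.mk'' (one_smul Γ a)
      mul_smul := fun g h q => Quotient.inductionOn' q fun a => congrArg Quotient.mk'' (mul_smul g h a) }
  have hd : p ∣ Nat.card (M ⧸ U) := by
    obtain ⟨m, hm⟩ : ∃ m, m ∉ U := by
      by_contra hcon
      push Not at hcon
      exact hk ((AddSubgroup.eq_top_iff' _).2 hcon)
    have hne : (QuotientAddGroup.mk m : M ⧸ U) ≠ 0 := fun e => hm ((QuotientAddGroup.eq_zero_iff m).1 e)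
    rw [← addOrderOf_eq_prime (show p • (QuotientAddGroup.mk m : M ⧸ U) = 0 by
      rw [← QuotientAddGroup.mk_nsmul, hexp, QuotientAddGroup.mk_zero]) hne]
    exact addOrderOf_dvd_natCard _
  obtain ⟨q, hq, hq0⟩ := hΓ.exists_fixed_point_of_prime_dvd_card_of_fixed_point (M ⧸ U) hd
    (a := QuotientAddGroup.mk (0 : M)) fun g => congrArg Quotient.mk'' (smul_zero g)
  obtain ⟨m, rfl⟩ := QuotientAddGroup.mk_surjective q
  have hm1 : m ∈ zc Γ M (k + 1) := fun g => by
    have h1 : -(g • m) + m ∈ U := QuotientAddGroup.eq.1 (hq g)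
    have h2 := neg_mem h1
    rwa [neg_add, neg_neg, ← sub_eq_add_neg] at h2
  have hm0 : m ∉ U := fun hm => hq0 ((QuotientAddGroup.eq_zero_iff m).2 hm).symm
  refine lt_of_le_of_ne (AddSubgroup.card_le_of_le (zc_mono k)) fun he => hm0 ?_
  rw [show U = zc Γ M (k + 1) from AddSubgroup.eq_of_le_of_card_ge (zc_mono k) he.ge]
  exact hm1

variable (Γ M) in
/-- The induced filtration of the endomorphisms. -/
def filt (k : ℕ) : AddSubgroup (AddMonoid.End M) where
  carrier := {x | ∀ j, ∀ m ∈ zc Γ M (j + k), x m ∈ zc Γ M j}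
  zero_mem' := fun j m _ => zero_mem _
  add_mem' := fun {x y} hx hy j m hm => add_mem (hx j m hm) (hy j m hm)
  neg_mem' := fun {x} hx j m hm => neg_mem (hx j m hm)

/-- The derivation of a nilpotent part. -/
def der (β : AddMonoid.End M) : AddMonoid.End M →+ AddMonoid.End M :=
  AddMonoidHom.mulLeft β - AddMonoidHom.mulRight β

/-- The quadratic term. -/
def quadTerm (β : AddMonoid.End M) : AddMonoid.End M →+ AddMonoid.End M :=
  -((AddMonoidHom.mulLeft β).comp (AddMonoidHom.mulRight β))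

theorem der_apply (β x : AddMonoid.End M) : der β x = β * x - x * β := rfl

theorem quadTerm_apply (β x : AddMonoid.End M) : quadTerm β x = -(β * (x * β)) := rfl

variable (M) in
/-- A quadratic offender. -/
def IsOff (A : Subgroup Γ) : Prop :=
  A ≠ ⊥ ∧ Quad M A ∧ Nat.card M ≤ Nat.card ↥A * Nat.card ↥(fx M A)

variable (M) in
/-- The depth of the nilpotent parts in the filtration. -/
noncomputable def depth (N : ℕ) (A : Subgroup Γ) (hA : Quad M A) : ℕ :=
  ∑ k ∈ Finset.range (N + 1), Nat.card ↥(linSub M A hA ⊓ filt Γ M k)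

theorem depth_le (N : ℕ) (A : Subgroup Γ) (hA : Quad M A) :
    depth M N A hA ≤ (N + 1) * Nat.card (AddMonoid.End M) := by
  haveI : Finite (AddMonoid.End M) := Finite.of_injective (fun x => (x : M → M)) DFunLike.coe_injective
  refine (Finset.sum_le_card_nsmul _ _ _ fun k _ => Nat.card_le_card_of_injective _ Subtype.val_injective).trans ?_
  rw [Finset.card_range, smul_eq_mul]

/-- The degeneration step. -/
theorem step (hf : ∀ g : Γ, (∀ m : M, g • m = m) → g = 1) (hexp : ∀ m : M, p • m = 0) (hp : p ≠ 2)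
    {N : ℕ} (hN : zc Γ M N = ⊤) {A : Subgroup Γ} (hA : IsOff M A) {b : Γ} (hb : nilp M b * nilp M b = 0)
    (h1 : conjSub b A ≤ Subgroup.normalizer (A : Set Γ))
    (h2 : conjSub b⁻¹ A ≤ Subgroup.normalizer (A : Set Γ))
    (h3 : conjSub b A ≤ Subgroup.normalizer (conjSub b⁻¹ A : Set Γ)) :
    b ∈ Subgroup.normalizer (A : Set Γ) ∨
      ∃ (A' : Subgroup Γ) (hA' : IsOff M A'), depth M N A hA.2.1 < depth M N A' hA'.2.1 := by
  classical
  haveI : Finite (AddMonoid.End M) := Finite.of_injective (fun x => (x : M → M)) DFunLike.coe_injective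
  obtain ⟨hne, hq, hoff⟩ := hA
  set β := nilp M b
  set U := linSub M A hq
  set D := der β
  set T := quadTerm β
  have hbinv : endo M b⁻¹ = 1 - β := by
    have e1 : endo M b⁻¹ * endo M b = 1 := by rw [← map_mul, inv_mul_cancel, map_one]
    have e2 : endo M b * (1 - β) = 1 := by
      rw [endo_eq, add_mul, one_mul, mul_sub, mul_one, hb, sub_zero, sub_add_cancel]
    calc endo M b⁻¹ = endo M b⁻¹ * (endo M b * (1 - β)) := by rw [e2, mul_one]
      _ = 1 - β := by rw [← mul_assoc, e1, one_mul]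
  have hc1 : ∀ a : Γ, nilp M (b * a * b⁻¹) = nilp M a + D (nilp M a) + T (nilp M a) := fun a => by
    rw [nilp_conj, hbinv, endo_eq, add_mul, one_mul, add_mul, mul_sub, mul_one, mul_sub, mul_one, der_apply,
      quadTerm_apply, mul_assoc]
    abel
  have hc2 : ∀ a : Γ, nilp M (b⁻¹ * a * b) = nilp M a - D (nilp M a) + T (nilp M a) := fun a => by
    have e := nilp_conj (M := M) b⁻¹ a
    rw [inv_inv] at e
    rw [e, hbinv, endo_eq, sub_mul, one_mul, sub_mul, mul_add, mul_one, mul_add, mul_one, der_apply, quadTerm_apply,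
      mul_assoc]
    abel
  have hm1 : ∀ {a : Γ}, a ∈ A → b * a * b⁻¹ ∈ conjSub b A := fun ha => conj_mem_conjSub ha
  have hm2 : ∀ {a : Γ}, a ∈ A → b⁻¹ * a * b ∈ conjSub b⁻¹ A := fun {a} ha => by
    simpa using conj_mem_conjSub (g := b⁻¹) ha
  have hq1 := hq.conj b
  have hq2 := hq.conj b⁻¹
  have hconjA : ∀ {c a : Γ}, c ∈ Subgroup.normalizer (A : Set Γ) → a ∈ A → c * a * c⁻¹ ∈ A := fun hc ha =>
    (Subgroup.mem_normalizer_iff.1 hc _).1 ha
  -- words with three letters from `A` vanish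
  have key : ∀ x ∈ U, ∀ y ∈ U, ∀ z ∈ U, x * β * y * β * z = 0 := by
    rintro _ ⟨a, ha, rfl⟩ _ ⟨a', ha', rfl⟩ _ ⟨a'', ha'', rfl⟩
    have e1 := hq.sandwich ha ha'' (hconjA (h1 (hm1 ha')) ha'') (hq1 _ (hm1 ha') _ (hm1 ha'))
    have e2 := hq.sandwich ha ha'' (hconjA (h2 (hm2 ha')) ha'') (hq2 _ (hm2 ha') _ (hm2 ha'))
    have hz : nilp M a * nilp M a' * nilp M a'' = 0 := by rw [hq a ha a' ha', zero_mul]
    rw [hc1, mul_add, mul_add, add_mul, add_mul, hz, zero_add] at e1
    rw [hc2, mul_add, mul_sub, add_mul, sub_mul, hz, zero_sub] at e2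
    have e3 : nilp M a * T (nilp M a') * nilp M a'' = 0 :=
      eq_zero_of_add_self hexp hp (by
        calc _ = (nilp M a * D (nilp M a') * nilp M a'' + nilp M a * T (nilp M a') * nilp M a'') +
              (-(nilp M a * D (nilp M a') * nilp M a'') + nilp M a * T (nilp M a') * nilp M a'') := by abel
          _ = 0 := by rw [e1, e2, add_zero])
    rwa [quadTerm_apply, mul_neg, neg_mul, neg_eq_zero, ← mul_assoc, ← mul_assoc] at e3
  let S₀ : Set (AddMonoid.End M) := {w | ∃ x ∈ U, w = x ∨ w = β * x ∨ w = x * β ∨ w = β * x * β}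
  have hUU : ∀ x ∈ U, ∀ y ∈ U, x * y = 0 := by
    rintro _ ⟨a, ha, rfl⟩ _ ⟨a', ha', rfl⟩; exact hq a ha a' ha'
  have hS₀ : ∀ s ∈ S₀, ∀ t ∈ S₀, ∀ u ∈ S₀, s * t * u = 0 := by
    rintro s ⟨x, hx, hs⟩ t ⟨y, hy, ht⟩ u ⟨z, hz, hu⟩
    have k1 : ∀ w, x * (y * w) = 0 := fun w => by rw [← mul_assoc, hUU x hx y hy, zero_mul]
    have k2 : ∀ w, y * (z * w) = 0 := fun w => by rw [← mul_assoc, hUU y hy z hz, zero_mul]
    have k3 : ∀ w, β * (β * w) = 0 := fun w => by rw [← mul_assoc, hb, zero_mul]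
    have k4 : x * (β * (y * (β * z))) = 0 := by simpa only [mul_assoc] using key x hx y hy z hz
    have k5 : ∀ w, x * (β * (y * (β * (z * w)))) = 0 := fun w => by
      have := congrArg (· * w) k4
      simpa only [mul_assoc, zero_mul] using this
    rcases hs with rfl | rfl | rfl | rfl <;> rcases ht with rfl | rfl | rfl | rfl <;>
      rcases hu with rfl | rfl | rfl | rfl <;>
      simp only [mul_assoc, k1, k2, k3, k4, k5, hUU _ hy _ hz, mul_zero, zero_mul]
  set K₀ := AddSubgroup.closure S₀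
  have hUK : ∀ x ∈ U, x ∈ K₀ ∧ D x ∈ K₀ ∧ T x ∈ K₀ := fun x hx => by
    refine ⟨AddSubgroup.subset_closure ⟨x, hx, Or.inl rfl⟩, ?_, ?_⟩
    · exact sub_mem (AddSubgroup.subset_closure ⟨x, hx, Or.inr (Or.inl rfl)⟩)
        (AddSubgroup.subset_closure ⟨x, hx, Or.inr (Or.inr (Or.inl rfl))⟩)
    · rw [quadTerm_apply, ← mul_assoc]
      exact neg_mem (AddSubgroup.subset_closure ⟨x, hx, Or.inr (Or.inr (Or.inr rfl))⟩)
  set U₁ := linSub M _ hq1
  set U₂ := linSub M _ hq2
  let S : Set (AddMonoid.End M) := (U : Set (AddMonoid.End M)) ∪ U₁ ∪ U₂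
  have hU₁ : ∀ y ∈ U₁, ∃ x ∈ U, y = x + D x + T x := by
    rintro _ ⟨c, hc, rfl⟩
    refine ⟨nilp M (b⁻¹ * c * b), ⟨_, mem_conjSub.1 hc, rfl⟩, ?_⟩
    conv_lhs => rw [show c = b * (b⁻¹ * c * b) * b⁻¹ by group]
    rw [hc1]
  have hU₂ : ∀ y ∈ U₂, ∃ x ∈ U, y = x - D x + T x := by
    rintro _ ⟨c, hc, rfl⟩
    refine ⟨nilp M (b * c * b⁻¹), ⟨_, by simpa using mem_conjSub.1 hc, rfl⟩, ?_⟩
    conv_lhs => rw [show c = b⁻¹ * (b * c * b⁻¹) * b by group]
    rw [hc2]
  have hSK : S ⊆ K₀ := by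
    rintro y ((hy | hy) | hy)
    · exact (hUK y hy).1
    · obtain ⟨x, hx, rfl⟩ := hU₁ y hy
      exact add_mem (add_mem (hUK x hx).1 (hUK x hx).2.1) (hUK x hx).2.2
    · obtain ⟨x, hx, rfl⟩ := hU₂ y hy
      exact add_mem (sub_mem (hUK x hx).1 (hUK x hx).2.1) (hUK x hx).2.2
  have htriple : ∀ x ∈ AddSubgroup.closure S, ∀ y ∈ AddSubgroup.closure S, ∀ z ∈ AddSubgroup.closure S,
      x * y * z = 0 := by
    have hle : AddSubgroup.closure S ≤ K₀ := (AddSubgroup.closure_le _).2 hSK
    exact fun x hx y hy z hz => triple_of_closure hS₀ x (hle hx) y (hle hy) z (hle hz)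
  have hcomm : ∀ {B C : Subgroup Γ} (hB : Quad M B) (hC : Quad M C), C ≤ Subgroup.normalizer (B : Set Γ) →
      (linSub M B hB : Set (AddMonoid.End M)) ⊆ S → (linSub M C hC : Set (AddMonoid.End M)) ⊆ S →
      ∀ x ∈ linSub M B hB, ∀ y ∈ linSub M C hC, x * y - y * x ∈ linSub M B hB := by
    rintro B C hB hC hle hBS hCS _ ⟨a, ha, rfl⟩ _ ⟨c, hc, rfl⟩
    have h0 : c * a * c⁻¹ ∈ B := (Subgroup.mem_normalizer_iff.1 (hle hc) _).1 ha
    have e : nilp M (c * a * c⁻¹) = nilp M a - (nilp M a * nilp M c - nilp M c * nilp M a) := by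
      have hi : endo M c⁻¹ = 1 - nilp M c := by rw [endo_eq, hC.nilp_inv hc, sub_eq_add_neg]
      have hcac : nilp M c * nilp M a * nilp M c = 0 :=
        htriple _ (AddSubgroup.subset_closure (hCS ⟨c, hc, rfl⟩)) _ (AddSubgroup.subset_closure (hBS ⟨a, ha, rfl⟩))
          _ (AddSubgroup.subset_closure (hCS ⟨c, hc, rfl⟩))
      rw [nilp_conj, hi, endo_eq, add_mul, one_mul, add_mul, mul_sub, mul_one, mul_sub, mul_one, hcac]
      abel
    rw [show nilp M a * nilp M c - nilp M c * nilp M a = nilp M a - nilp M (c * a * c⁻¹) by rw [e]; abel]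
    exact sub_mem ⟨a, ha, rfl⟩ ⟨_, h0, rfl⟩
  have hsU : (U : Set (AddMonoid.End M)) ⊆ S := fun _ h => Or.inl (Or.inl h)
  have hsU₁ : (U₁ : Set (AddMonoid.End M)) ⊆ S := fun _ h => Or.inl (Or.inr h)
  have hsU₂ : (U₂ : Set (AddMonoid.End M)) ⊆ S := fun _ h => Or.inr h
  have hbr : ∀ x ∈ S, ∀ y ∈ S, x * y - y * x ∈ S := by
    have h01 := hcomm hq hq1 h1 hsU hsU₁
    have h02 := hcomm hq hq2 h2 hsU hsU₂
    have h21 := hcomm hq2 hq1 h3 hsU₂ hsU₁
    have hflip : ∀ {V : AddSubgroup (AddMonoid.End M)} {x y}, x * y - y * x ∈ V → y * x - x * y ∈ V :=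
      fun h => by simpa using neg_mem h
    have hself : ∀ {B : Subgroup Γ} (hB : Quad M B), ∀ x ∈ linSub M B hB, ∀ y ∈ linSub M B hB,
        x * y - y * x ∈ U := by
      rintro B hB _ ⟨a, ha, rfl⟩ _ ⟨c, hc, rfl⟩
      rw [hB a ha c hc, hB c hc a ha, sub_zero]
      exact zero_mem U
    rintro x ((hx | hx) | hx) y ((hy | hy) | hy)
    · exact hsU (hself hq x hx y hy)
    · exact hsU (h01 x hx y hy)
    · exact hsU (h02 x hx y hy)
    · exact hsU (hflip (h01 y hy x hx))
    · exact hsU (hself hq1 x hx y hy)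
    · exact hsU₂ (hflip (h21 y hy x hx))
    · exact hsU (hflip (h02 y hy x hx))
    · exact hsU₂ (h21 x hx y hy)
    · exact hsU (hself hq2 x hx y hy)
  obtain ⟨k, hk⟩ := (Fact.out : p.Prime).odd_of_ne_two hp
  have hexpS := expTwo_mem (p := p) (h := k + 1) (nsmul_end hexp) (by omega) (H := Set.range (endo (Γ := Γ) M))
    ⟨1, map_one _⟩ (by rintro _ ⟨g, rfl⟩ _ ⟨g', rfl⟩; exact ⟨g * g', map_mul _ g g'⟩) (S := S)
    (by
      rintro s ((⟨a, ha, rfl⟩ | ⟨a, ha, rfl⟩) | ⟨a, ha, rfl⟩)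
      exacts [hq a ha a ha, hq1 a ha a ha, hq2 a ha a ha])
    (by
      rintro s ((⟨a, -, rfl⟩ | ⟨a, -, rfl⟩) | ⟨a, -, rfl⟩) <;> exact ⟨a, endo_eq a⟩)
    htriple hbr
  -- the new subgroup
  have hhalf : ∀ x : AddMonoid.End M, (k + 1) • (x + x) = x := fun x => by
    rw [← two_nsmul, ← mul_nsmul', show (k + 1) * 2 = p + 1 by omega, succ_nsmul, nsmul_end hexp, zero_add]
  have hUS : ∀ x ∈ U, x ∈ AddSubgroup.closure S ∧ D x ∈ AddSubgroup.closure S ∧ T x ∈ AddSubgroup.closure S := by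
    rintro _ ⟨a, ha, rfl⟩
    have hx : nilp M a ∈ AddSubgroup.closure S := AddSubgroup.subset_closure (hsU ⟨a, ha, rfl⟩)
    have hp1 : nilp M a + D (nilp M a) + T (nilp M a) ∈ AddSubgroup.closure S := by
      rw [← hc1]; exact AddSubgroup.subset_closure (hsU₁ ⟨_, hm1 ha, rfl⟩)
    have hp2 : nilp M a - D (nilp M a) + T (nilp M a) ∈ AddSubgroup.closure S := by
      rw [← hc2]; exact AddSubgroup.subset_closure (hsU₂ ⟨_, hm2 ha, rfl⟩)
    refine ⟨hx, ?_, ?_⟩
    · rw [← hhalf (D (nilp M a))]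
      refine nsmul_mem ?_ _
      convert sub_mem hp1 hp2 using 1
      abel
    · rw [← hhalf (T (nilp M a))]
      refine nsmul_mem ?_ _
      convert sub_mem (add_mem hp1 hp2) (add_mem hx hx) using 1
      abel
  set L := lead D T U
  have hLS : L ≤ AddSubgroup.closure S :=
    lead_le _ (fun x hx => (hUS x hx).1) (fun x hx => (hUS x hx).2.1) fun x hx => (hUS x hx).2.2
  have hLL : ∀ x ∈ L, ∀ y ∈ L, x * y = 0 := fun x hx y hy =>
    lead_mul AddMonoidHom.mul (D₁ := D) (T₁ := T) (D₂ := D) (T₂ := T) (fun u hu v hv => hUU u hu v hv)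
      (fun u hu v hv => by
        show D u * v + u * D v = 0
        simp only [D, der_apply, sub_mul, mul_sub, mul_assoc, hUU u hu v hv, mul_zero]
        rw [← mul_assoc u v, hUU u hu v hv, zero_mul]
        abel)
      (fun u hu v hv => by
        show T u * v + D u * D v + u * T v = 0
        have huv : ∀ w, u * (v * w) = 0 := fun w => by rw [← mul_assoc, hUU u hu v hv, zero_mul]
        have hbb : ∀ w, β * (β * w) = 0 := fun w => by rw [← mul_assoc, hb, zero_mul]
        simp only [D, T, der_apply, quadTerm_apply, sub_mul, mul_sub, neg_mul, mul_neg, mul_assoc, huv, hbb,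
          hUU u hu v hv, mul_zero]
        abel)
      (fun u hu v hv => by
        show T u * D v + D u * T v = 0
        have huv : ∀ w, u * (v * w) = 0 := fun w => by rw [← mul_assoc, hUU u hu v hv, zero_mul]
        have hbb : ∀ w, β * (β * w) = 0 := fun w => by rw [← mul_assoc, hb, zero_mul]
        simp only [D, T, der_apply, quadTerm_apply, sub_mul, mul_sub, neg_mul, mul_neg, mul_assoc, huv, hbb,
          mul_zero]
        abel)
      (fun u hu v hv => by
        show T u * T v = 0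
        have hbb : ∀ w, β * (β * w) = 0 := fun w => by rw [← mul_assoc, hb, zero_mul]
        simp only [T, quadTerm_apply, neg_mul, mul_neg, mul_assoc, hbb, mul_zero, neg_zero])
      hx hy
  have hlift : ∀ x ∈ L, ∃ g : Γ, nilp M g = x := fun x hx => by
    obtain ⟨g, hg⟩ := hexpS x (hLS hx)
    rw [expTwo_of_sq _ (hLL x hx x hx)] at hg
    exact ⟨g, by rw [nilp, hg, add_sub_cancel_left]⟩
  let A' : Subgroup Γ :=
    { carrier := {g | nilp M g ∈ L}
      one_mem' := by
        show nilp M (1 : Γ) ∈ L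
        rw [nilp, map_one, sub_self]; exact zero_mem L
      mul_mem' := fun {g g'} hg hg' => by
        show nilp M (g * g') ∈ L
        have : nilp M (g * g') = nilp M g + nilp M g' := by
          conv_lhs => rw [nilp, map_mul, endo_eq g, endo_eq g', add_mul, one_mul, mul_add, mul_one, hLL _ hg _ hg']
          abel
        rw [this]; exact add_mem hg hg'
      inv_mem' := fun {g} hg => by
        show nilp M g⁻¹ ∈ L
        have h' : nilp M g⁻¹ = -nilp M g := by
          have e1 : endo M g⁻¹ * endo M g = 1 := by rw [← map_mul, inv_mul_cancel, map_one]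
          have e2 : endo M g * (1 - nilp M g) = 1 := by
            rw [endo_eq, add_mul, one_mul, mul_sub, mul_one, hLL _ hg _ hg, sub_zero, sub_add_cancel]
          have : endo M g⁻¹ = 1 - nilp M g := by
            calc endo M g⁻¹ = endo M g⁻¹ * (endo M g * (1 - nilp M g)) := by rw [e2, mul_one]
              _ = 1 - nilp M g := by rw [← mul_assoc, e1, one_mul]
          rw [nilp, this]; abel
        rw [h']; exact neg_mem hg }
  have hq' : Quad M A' := fun g hg g' hg' => hLL _ hg _ hg'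
  have hlin : linSub M A' hq' = L := by
    ext x
    constructor
    · rintro ⟨g, hg, rfl⟩; exact hg
    · intro hx
      obtain ⟨g, rfl⟩ := hlift x hx
      exact ⟨g, hx, rfl⟩
  have hcardA : Nat.card ↥A ≤ Nat.card ↥A' := by
    rw [← card_linSub hf hq, ← card_linSub hf hq', hlin]
    exact card_le_card_lead U
  have hfix : Nat.card ↥(fx M A) ≤ Nat.card ↥(fx M A') := by
    have hz : ∀ x ∈ U, ∀ m ∈ fx M A, x m = 0 := by
      rintro _ ⟨a, ha, rfl⟩ m hm
      rw [nilp_apply, hm a ha, sub_self]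
    refine (card_le_card_lead (D := β) (T := 0) (fx M A)).trans (AddSubgroup.card_le_of_le fun w hw g hg => ?_)
    rw [← sub_eq_zero, ← nilp_apply]
    refine lead_mul (AddMonoidHom.id (AddMonoid.End M)) (D₁ := D) (T₁ := T) (D₂ := β) (T₂ := 0)
      hz (fun u hu v hv => ?_) (fun u hu v hv => ?_) (fun u hu v hv => ?_) (fun u hu v hv => ?_) hg hw
    · show (β * u - u * β) v + u (β v) = 0
      show β (u v) - u (β v) + u (β v) = 0
      rw [hz u hu v hv, map_zero]; abel
    · show -(β (u (β v))) + (β (u (β v)) - u (β (β v))) + u 0 = 0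
      rw [show β (β v) = 0 from DFunLike.congr_fun hb v, map_zero]; abel
    · show -(β (u (β (β v)))) + (β (u 0) - u (β 0)) = 0
      rw [show β (β v) = 0 from DFunLike.congr_fun hb v]
      simp only [map_zero]; abel
    · show -(β (u (β 0))) = 0
      simp only [map_zero, neg_zero]
  have hA' : IsOff M A' := by
    refine ⟨fun hbot => hne (Subgroup.eq_bot_of_card_le A ?_), hq', hoff.trans (Nat.mul_le_mul hcardA hfix)⟩
    rw [hbot] at hcardA
    simpa using hcardA
  -- the filtration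
  have hanti : ∀ j, filt Γ M (j + 1) ≤ filt Γ M j := fun j x hx i m hm => hx i m (zc_mono _ hm)
  have hFN : filt Γ M N = ⊥ := by
    refine (AddSubgroup.eq_bot_iff_forall _).2 fun x hx => AddMonoidHom.ext fun m => ?_
    have h' := hx 0 m (by rw [zero_add, hN]; exact AddSubgroup.mem_top m)
    exact h'
  have hβ : ∀ {j : ℕ} {m : M}, m ∈ zc Γ M (j + 1) → β m ∈ zc Γ M j := fun hm => hm b
  have hD : ∀ j, ∀ x ∈ filt Γ M j, D x ∈ filt Γ M (j + 1) := fun j x hx i m hm => by
    show β (x m) - x (β m) ∈ zc Γ M i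
    refine sub_mem (hβ (hx (i + 1) m (by rwa [show i + 1 + j = i + (j + 1) by omega]))) (hx i _ (hβ ?_))
    rwa [show i + j + 1 = i + (j + 1) by omega]
  have hT : ∀ j, ∀ x ∈ filt Γ M j, T x ∈ filt Γ M (j + 1) := fun j x hx i m hm => by
    show -(β (x (β m))) ∈ zc Γ M i
    refine neg_mem (hβ (zc_mono _ (hx i _ (hβ ?_))))
    rwa [show i + j + 1 = i + (j + 1) by omega]
  have hU0 : U ≤ filt Γ M 0 := by
    rintro _ ⟨a, -, rfl⟩ i m hm
    exact sub_mem (smul_mem_zc hm a) hm
  have hge : ∀ j, Nat.card ↥(U ⊓ filt Γ M j) ≤ Nat.card ↥(L ⊓ filt Γ M j) := fun j => by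
    refine (card_le_card_lead (D := D) (T := T) (U ⊓ filt Γ M j)).trans (AddSubgroup.card_le_of_le ?_)
    refine le_inf (lead_mono inf_le_left) (lead_le _ inf_le_right ?_ ?_)
    · exact fun x hx => hanti j (hD j x hx.2)
    · exact fun x hx => hanti j (hT j x hx.2)
  by_cases hlt : depth M N A hq < depth M N A' hq'
  · exact Or.inr ⟨A', hA', hlt⟩
  left
  have heq : ∀ j, Nat.card ↥(L ⊓ filt Γ M j) = Nat.card ↥(U ⊓ filt Γ M j) := by
    intro j
    rcases le_or_gt j N with hj | hj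
    · unfold depth at hlt
      simp only [hlin] at hlt
      by_contra hne'
      exact hlt (Finset.sum_lt_sum (fun i _ => hge i)
        ⟨j, Finset.mem_range.2 (by omega), lt_of_le_of_ne (hge j) (Ne.symm hne')⟩)
    · have hz : filt Γ M j = ⊥ := le_bot_iff.1 (le_of_le_of_eq (antitone_nat_of_succ_le hanti hj.le) hFN)
      rw [hz, inf_bot_eq, inf_bot_eq]
  have hinv := invariant_of_card_eq (filt Γ M) hanti hFN hD hT hU0 heq
  have hle : conjSub b A ≤ A := fun c hc => by
    obtain ⟨a', ha', e⟩ : nilp M c ∈ U := by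
      have hca := mem_conjSub.1 hc
      rw [show c = b * (b⁻¹ * c * b) * b⁻¹ by group, hc1]
      exact add_mem (add_mem ⟨_, hca, rfl⟩ (hinv _ ⟨_, hca, rfl⟩).1) (hinv _ ⟨_, hca, rfl⟩).2
    exact nilp_injective hf e ▸ ha'
  exact (CfsgLib.Fusion.conjSub_eq_iff_mem_normalizer).1
    (Subgroup.eq_of_le_of_card_ge hle (CfsgLib.Fusion.card_conjSub b A).ge)

/-- A quadratic offender normalized by all its conjugates. -/
theorem exists_normal_offender (hΓ : IsPGroup p Γ) (hf : ∀ g : Γ, (∀ m : M, g • m = m) → g = 1)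
    (hexp : ∀ m : M, p • m = 0) (hp : p ≠ 2) {E : Subgroup Γ} (hEne : E ≠ ⊥)
    (hEc : ∀ a ∈ E, ∀ b ∈ E, a * b = b * a) (hEoff : Nat.card M ≤ Nat.card ↥E * Nat.card ↥(fx M E)) :
    ∃ A : Subgroup Γ, IsOff M A ∧ ∀ g : Γ, conjSub g A ≤ Subgroup.normalizer (A : Set Γ) := by
  classical
  haveI : Finite (AddMonoid.End M) := Finite.of_injective (fun x => (x : M → M)) DFunLike.coe_injective
  obtain ⟨N, hN⟩ := exists_zc_eq_top hΓ hexp
  -- a first quadratic offender
  obtain ⟨A₀, hA₀⟩ : ∃ A₀ : Subgroup Γ, IsOff M A₀ := by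
    obtain ⟨A₀, hA₀, hmin⟩ := Set.exists_min_image {B : Subgroup Γ | B ≤ E ∧ B ≠ ⊥ ∧
      Nat.card M ≤ Nat.card ↥B * Nat.card ↥(fx M B)} (fun B => Nat.card ↥B) (Set.toFinite _) ⟨E, le_rfl, hEne, hEoff⟩
    refine ⟨A₀, hA₀.2.1, fun a ha b hb => AddMonoidHom.ext fun v => ?_, hA₀.2.2⟩
    have h := CfsgLib.LocalEven.MinOffender.quad_of_strict (M := M) (A := A₀) hexp (hΓ.to_subgroup A₀)
      (fun a ha b hb => hEc a (hA₀.1 ha) b (hA₀.1 hb)) hA₀.2.2 (fun B hB hB1 hB2 => ?_) ha hb v
    · show a • (b • v - v) - (b • v - v) = 0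
      rw [h, sub_self]
    · by_contra hcon
      push Not at hcon
      have h1 := hmin B ⟨hB.trans hA₀.1, hB1, hA₀.2.2.trans hcon⟩
      exact hB2 (Subgroup.eq_of_le_of_card_ge hB h1)
  -- choose the deepest one
  obtain ⟨A, hA, hmax⟩ : ∃ (A : Subgroup Γ) (hA : IsOff M A), ∀ (B : Subgroup Γ) (hB : IsOff M B),
      depth M N B hB.2.1 ≤ depth M N A hA.2.1 := by
    have : Nonempty {A : Subgroup Γ // IsOff M A} := ⟨⟨A₀, hA₀⟩⟩
    obtain ⟨⟨A, hA⟩, hmax⟩ := Finite.exists_max fun B : {A : Subgroup Γ // IsOff M A} => depth M N B.1 B.2.2.1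
    exact ⟨A, hA, fun B hB => hmax ⟨B, hB⟩⟩
  refine ⟨A, hA, ?_⟩
  set W : Subgroup Γ := ⨆ g : {g : Γ // conjSub g A ≤ Subgroup.normalizer (A : Set Γ)}, conjSub (g : Γ) A
  have hWN : W ≤ Subgroup.normalizer (A : Set Γ) := iSup_le fun g => g.2
  have hAW : A ≤ W := by
    have h1 : conjSub (1 : Γ) A ≤ Subgroup.normalizer (A : Set Γ) := by
      rw [CfsgLib.Fusion.conjSub_one]; exact Subgroup.le_normalizer
    exact (CfsgLib.Fusion.conjSub_one A).ge.trans (le_iSup (fun g : {g : Γ // conjSub g A ≤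
      Subgroup.normalizer (A : Set Γ)} => conjSub (g : Γ) A) ⟨1, h1⟩)
  -- a conjugate normalizing `W` lies in `W`
  have key : ∀ g : Γ, conjSub g A ≤ Subgroup.normalizer (W : Set Γ) → conjSub g A ≤ W := by
    intro g hg
    refine le_iSup_of_le ⟨g, fun b hb => ?_⟩ le_rfl
    have hbW := hg hb
    have hmove : ∀ c ∈ Subgroup.normalizer (W : Set Γ), conjSub c A ≤ Subgroup.normalizer (A : Set Γ) :=
      fun c hc x hx => hWN (by
        have h1 := (Subgroup.mem_normalizer_iff.1 hc _).1 (hAW (mem_conjSub.1 hx))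
        simpa [mul_assoc] using h1)
    have h3 : conjSub b A ≤ Subgroup.normalizer (conjSub b⁻¹ A : Set Γ) := by
      have h4 := CfsgLib.Fusion.conjSub_mono b⁻¹ (hmove (b * b) (mul_mem hbW hbW))
      rw [CfsgLib.Fusion.conjSub_conjSub, inv_mul_cancel_left] at h4
      refine h4.trans fun x hx => ?_
      have h5 := mem_conjSub.1 hx
      rw [inv_inv, Subgroup.mem_normalizer_iff] at h5
      rw [Subgroup.mem_normalizer_iff]
      intro y
      have h6 := h5 (b * y * b⁻¹)
      simp only [SetLike.mem_coe, mem_conjSub, inv_inv] at h6 ⊢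
      rw [h6]
      constructor <;> intro h <;> simpa [mul_assoc] using h
    have hb2 : nilp M b * nilp M b = 0 := hA.2.1.conj g b hb b hb
    rcases step hf hexp hp hN hA hb2 (hmove b hbW) (hmove _ (inv_mem hbW)) h3 with h | ⟨A', hA', hlt⟩
    · exact h
    · exact absurd (hmax A' hA') (not_le.2 hlt)
  -- the normalizer chain stops at `W`
  have hNN : Subgroup.normalizer ((Subgroup.normalizer (W : Set Γ) : Subgroup Γ) : Set Γ) ≤
      Subgroup.normalizer (W : Set Γ) := by
    intro n hn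
    have hle : conjSub n W ≤ W := by
      show (⨆ g : {g : Γ // conjSub g A ≤ Subgroup.normalizer (A : Set Γ)}, conjSub (g : Γ) A).map _ ≤ W
      rw [Subgroup.map_iSup]
      refine iSup_le fun g => ?_
      show conjSub n (conjSub (g : Γ) A) ≤ W
      rw [CfsgLib.Fusion.conjSub_conjSub]
      refine key _ fun x hx => ?_
      rw [← CfsgLib.Fusion.conjSub_conjSub] at hx
      have h1 : n⁻¹ * x * n ∈ Subgroup.normalizer (W : Set Γ) :=
        Subgroup.le_normalizer (le_iSup (fun g : {g : Γ // conjSub g A ≤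
          Subgroup.normalizer (A : Set Γ)} => conjSub (g : Γ) A) g (mem_conjSub.1 hx))
      have h2 := (Subgroup.mem_normalizer_iff.1 hn _).1 h1
      simpa [mul_assoc] using h2
    exact (CfsgLib.Fusion.conjSub_eq_iff_mem_normalizer).1
      (Subgroup.eq_of_le_of_card_ge hle (CfsgLib.Fusion.card_conjSub n W).ge)
  have htop : Subgroup.normalizer (W : Set Γ) = ⊤ := by
    by_contra hne
    haveI := hΓ.isNilpotent
    exact absurd hNN (not_le_of_gt (Group.normalizerCondition_of_isNilpotent _ (lt_top_iff_ne_top.2 hne)))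
  exact fun g => (key g (le_top.trans htop.ge)).trans hWN

end CfsgLib.FModule
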